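import Cfsg.Agent.H549.Exc.Cent
import Cfsg.Agent.ChevalleyStructure.XColumns
import Cfsg.Agent.ChevalleyStructure.NConjSharp
import Cfsg.Agent.ChevalleyStructure.Good

/-!
# Root vectors in submodules of the adjoint module stable under `D.group k` (helper549)

`k` infinite, `L` a submodule of `D.Idx → k` stable under all root elements `x_r(t)`.
* `ev_mem` : `e_s ∈ L`, `s ≠ ±r`, the chain entry `(u, ±1)` : `e_u ∈ L`;
* `all_of_top` : if `L` contains the vector of the highest root then it contains all the root vectors;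
* `all_of_long` : the same for a long root.
-/

set_option autoImplicit false
set_option linter.unusedSectionVars false

namespace Cfsg.Agent.H549.Exc

open Cfsg Cfsg.Lie Cfsg.Lie.ChevalleyDatum
open Cfsg.Agent.ChevalleyStructure Cfsg.Agent.ChevalleyStructure.Elts Cfsg.Agent.ChevalleyStructure.XColumns
open scoped Matrix

universe u v

/-- the coefficients of a polynomial curve in a subspace are in the subspace -/
theorem coeff_mem {k : Type u} [Field k] [Infinite k] {V : Type v} [AddCommGroup V] [Module k V] {L : Submodule k V}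
    {n : ℕ} {w : Fin n → V} (h : ∀ t : k, ∑ i : Fin n, t ^ (i.val + 1) • w i ∈ L) (i : Fin n) : w i ∈ L := by
  by_contra hi
  obtain ⟨f, hf, hfL⟩ := Submodule.exists_le_ker_of_notMem hi
  have h1 : ∀ t : k, (∑ i : Fin n, Polynomial.C (f (w i)) * Polynomial.X ^ (i.val + 1)).eval t = 0 := by
    intro t
    have h2 := LinearMap.mem_ker.1 (hfL (h t))
    rw [map_sum] at h2
    rw [Polynomial.eval_finsetSum, ← h2]
    refine Finset.sum_congr rfl fun j _ => ?_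
    rw [map_smul, smul_eq_mul, Polynomial.eval_mul, Polynomial.eval_C, Polynomial.eval_pow, Polynomial.eval_X,
      mul_comm]
  have h2 : (∑ i : Fin n, Polynomial.C (f (w i)) * Polynomial.X ^ (i.val + 1)) = 0 :=
    Polynomial.funext fun t => by rw [h1, Polynomial.eval_zero]
  have h3 := congrArg (fun P : Polynomial k => P.coeff (i.val + 1)) h2
  simp only [Polynomial.finsetSum_coeff, Polynomial.coeff_C_mul_X_pow, Polynomial.coeff_zero] at h3
  rw [Finset.sum_eq_single i] at h3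
  · rw [if_pos rfl] at h3
    exact hf h3
  · intro j _ hj
    rw [if_neg]
    intro h4
    exact hj (Fin.ext (by omega))
  · intro h4
    exact absurd (Finset.mem_univ i) h4

variable {D : ChevalleyDatum} {k : Type u} [Field k] [Infinite k] {L : Submodule k (D.Idx → k)}

/-- **One step.** -/
theorem ev_mem (hD : InList D) {r s j u : ℕ} {c : ℤ} (hr : r < D.nroots) (hs : s < D.nroots) (hsr : s ≠ r)
    (hsn : s ≠ D.neg r) (hL : ∀ t : k, StabU L (D.x k r t)) (h : ev D k s ∈ L)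
    (hc : (D.chainEntry r s)[j]? = some (u, c)) : (c : k) • ev D k u ∈ L := by
  obtain ⟨hj, hj'⟩ := List.getElem?_eq_some_iff.1 hc
  have hrow := NConjSharp.nodup_row (Good.goodAt_of_mem D hD r hr)
  have h1 : ∀ t : k, ∑ i : Fin (D.chainEntry r s).length, t ^ (i.val + 1) •
      ((((D.chainEntry r s)[i.val]).2 : k) • ev D k ((D.chainEntry r s)[i.val]).1) ∈ L := by
    intro t
    have h2 := L.sub_mem (hL t _ h) h
    rw [x_mulVec_ev hr hs hsr hsn hrow t, add_sub_cancel_left] at h2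
    rw [← List.mapIdx_eq_zipIdx_map (f := fun i a => (((a : ℕ × ℤ).2 : k) * t ^ (i + 1)) • ev D k a.1)] at h2
    rw [List.mapIdx_eq_ofFn, List.sum_ofFn] at h2
    refine cast (congrArg (· ∈ L) ?_) h2
    refine Finset.sum_congr rfl fun i _ => ?_
    rw [smul_smul, mul_comm]
    rfl
  have h2 := coeff_mem h1 ⟨j, hj⟩
  rw [hj'] at h2
  exact h2

/-! ### the tables of steps -/

/-- `e_u` is obtained from `e_s` by `x_r(t)` : the entry with index `j` of the chain is `(u, ±1)` -/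
def stepOK (D : ChevalleyDatum) (r s j u : ℕ) : Bool :=
  Nat.blt r D.nroots && Nat.blt s D.nroots && !(Nat.beq s r) && !(Nat.beq s (D.neg r)) &&
    match (D.chainEntry r s)[j]? with
    | some e => Nat.beq e.1 u && (e.2 == 1 || e.2 == -1)
    | none => false

theorem step_mem (hD : InList D) (hL : ∀ r, ∀ t : k, StabU L (D.x k r t)) {r s j u : ℕ} (h : stepOK D r s j u = true)
    (hs : ev D k s ∈ L) : ev D k u ∈ L := by
  unfold stepOK at h
  simp only [Bool.and_eq_true, Bool.not_eq_true', Nat.blt_eq] at h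
  obtain ⟨⟨⟨⟨h1, h2⟩, h3⟩, h4⟩, h5⟩ := h
  have h3' : s ≠ r := by
    intro e
    rw [e, Nat.beq_refl] at h3
    exact Bool.noConfusion h3
  have h4' : s ≠ D.neg r := by
    intro e
    rw [← e, Nat.beq_refl] at h4
    exact Bool.noConfusion h4
  revert h5
  cases h6 : (D.chainEntry r s)[j]? with
  | none => intro h5; exact Bool.noConfusion h5
  | some e =>
    intro h5
    simp only [Bool.and_eq_true, Bool.or_eq_true, beq_iff_eq] at h5
    obtain ⟨h7, h8⟩ := h5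
    have h7 := Nat.eq_of_beq_eq_true h7
    have h9 := ev_mem hD h1 h2 h3' h4' (hL r) hs (c := e.2) (u := u) (j := j) (by rw [h6, ← h7])
    rcases h8 with h8 | h8
    · rwa [h8, Int.cast_one, one_smul] at h9
    · rw [h8, Int.cast_neg, Int.cast_one, neg_one_smul] at h9
      exact (Submodule.neg_mem_iff L).1 h9

/-- the check of the table of steps down -/
def chkDn (D : ChevalleyDatum) (tab : List (ℕ × ℕ × ℕ)) : Bool :=
  Nat.beq (tab.length + 1) D.nroots && tab.zipIdx.all fun q => Nat.blt q.2 q.1.2.1 && stepOK D q.1.1 q.1.2.1 q.1.2.2 q.2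

theorem all_of_dn (hD : InList D) (hL : ∀ r, ∀ t : k, StabU L (D.x k r t)) {tab : List (ℕ × ℕ × ℕ)}
    (h : chkDn D tab = true) (htop : ev D k (D.nroots - 1) ∈ L) {u : ℕ} (hu : u < D.nroots) : ev D k u ∈ L := by
  unfold chkDn at h
  rw [Bool.and_eq_true, List.all_eq_true] at h
  have h1 : tab.length + 1 = D.nroots := Nat.eq_of_beq_eq_true h.1
  obtain ⟨n, hn⟩ : ∃ n, D.nroots - 1 - u = n := ⟨_, rfl⟩
  induction n using Nat.strong_induction_on generalizing u with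
  | _ n ih =>
    by_cases h2 : u = D.nroots - 1
    · rw [h2]; exact htop
    · have h3 : u < tab.length := by omega
      have h4 := h.2 (tab[u], u) (by
        rw [List.mem_zipIdx_iff_getElem?]
        exact List.getElem?_eq_getElem h3)
      rw [Bool.and_eq_true, Nat.blt_eq] at h4
      obtain ⟨h5, h6⟩ := h4
      have h7 : tab[u].2.1 < D.nroots := by
        have h8 := h6
        unfold stepOK at h8
        simp only [Bool.and_eq_true, Nat.blt_eq] at h8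
        exact h8.1.1.1.2
      change u < tab[u].2.1 at h5
      exact step_mem hD hL h6 (ih (D.nroots - 1 - tab[u].2.1) (by omega) h7 rfl)

/-- the Cartan integer `⟨q, s^∨⟩` -/
def pairing (D : ChevalleyDatum) (q s : ℕ) : ℤ :=
  ((List.range D.rank).map fun i => (D.coroot.getD s #[]).getD i 0 * D.cartan i q).sum

/-- the long roots: all Cartan integers `⟨q, s^∨⟩`, `q ≠ ±s`, have absolute value at most one -/
def Long (D : ChevalleyDatum) (s : ℕ) : Prop :=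
  s < D.nroots ∧ ∀ q < D.nroots, q ≠ s → q ≠ D.neg s → |pairing D q s| ≤ 1

/-- the check of the table of steps up: entry `(u, r, j)` at `s` a step up from `s` to `u`, or `(q, n, 0)` with
`1 < |⟨q, s^∨⟩|` -/
def chkUp (D : ChevalleyDatum) (tab : List (ℕ × ℕ × ℕ)) : Bool :=
  Nat.beq (tab.length + 1) D.nroots && tab.zipIdx.all fun q =>
    bif Nat.blt q.1.2.1 D.nroots then
      Nat.blt q.2 q.1.1 && Nat.blt q.1.1 D.nroots && stepOK D q.1.2.1 q.2 q.1.2.2 q.1.1 &&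
        (Nat.beq (q.1.1 + 1) D.nroots || match tab[q.1.1]? with
          | some e => Nat.blt e.2.1 D.nroots
          | none => false)
    else Nat.blt q.1.1 D.nroots && !(Nat.beq q.1.1 q.2) && !(Nat.beq q.1.1 (D.neg q.2)) &&
      decide (1 < |pairing D q.1.1 q.2|)

theorem top_of_up (hD : InList D) (hL : ∀ r, ∀ t : k, StabU L (D.x k r t)) {tab : List (ℕ × ℕ × ℕ)}
    (h : chkUp D tab = true) {s : ℕ} (hs : s < D.nroots)
    (hs' : s + 1 = D.nroots ∨ ∃ e, tab[s]? = some e ∧ e.2.1 < D.nroots) (hsL : ev D k s ∈ L) :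
    ev D k (D.nroots - 1) ∈ L := by
  unfold chkUp at h
  rw [Bool.and_eq_true, List.all_eq_true] at h
  obtain ⟨n, hn⟩ : ∃ n, D.nroots - s = n := ⟨_, rfl⟩
  induction n using Nat.strong_induction_on generalizing s with
  | _ n ih =>
    rcases hs' with h1 | ⟨e, he, h1⟩
    · have h2 : D.nroots - 1 = s := by omega
      rw [h2]; exact hsL
    · have h4 := h.2 (e, s) (by rw [List.mem_zipIdx_iff_getElem?]; exact he)
      have h5 : Nat.blt (e, s).1.2.1 D.nroots = true := by rw [Nat.blt_eq]; exact h1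
      rw [h5, cond_true, Bool.and_eq_true, Bool.and_eq_true, Bool.and_eq_true, Nat.blt_eq, Nat.blt_eq] at h4
      obtain ⟨⟨⟨h6, h7⟩, h8⟩, h9⟩ := h4
      change s < e.1 at h6
      change e.1 < D.nroots at h7
      refine ih (D.nroots - e.1) (by omega) h7 ?_ (step_mem hD hL h8 hsL) rfl
      rw [Bool.or_eq_true] at h9
      rcases h9 with h9 | h9
      · exact Or.inl (Nat.eq_of_beq_eq_true h9)
      · right
        change (match tab[e.1]? with | some e => Nat.blt e.2.1 D.nroots | none => false) = true at h9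
        revert h9
        cases h10 : tab[e.1]? with
        | none => intro h9; exact Bool.noConfusion h9
        | some e' =>
          intro h9
          rw [Nat.blt_eq] at h9
          exact ⟨e', rfl, h9⟩

theorem top_of_long (hD : InList D) (hL : ∀ r, ∀ t : k, StabU L (D.x k r t)) {tab : List (ℕ × ℕ × ℕ)}
    (h : chkUp D tab = true) {s : ℕ} (hs : Long D s) (hsL : ev D k s ∈ L) : ev D k (D.nroots - 1) ∈ L := by
  refine top_of_up hD hL h hs.1 ?_ hsL
  unfold chkUp at h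
  rw [Bool.and_eq_true, List.all_eq_true] at h
  have h1 : tab.length + 1 = D.nroots := Nat.eq_of_beq_eq_true h.1
  by_cases h2 : s + 1 = D.nroots
  · exact Or.inl h2
  right
  have h3 : s < tab.length := by have := hs.1; omega
  refine ⟨tab[s], List.getElem?_eq_getElem h3, ?_⟩
  by_contra hcon
  have h4 := h.2 (tab[s], s) (by rw [List.mem_zipIdx_iff_getElem?]; exact List.getElem?_eq_getElem h3)
  have h5 : Nat.blt (tab[s], s).1.2.1 D.nroots = false := by
    rw [Bool.eq_false_iff, Ne, Nat.blt_eq]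
    exact hcon
  rw [h5, cond_false] at h4
  simp only [Bool.and_eq_true, Bool.not_eq_true', Nat.blt_eq, decide_eq_true_eq] at h4
  obtain ⟨⟨⟨h6, h7⟩, h8⟩, h9⟩ := h4
  have h7' : (tab[s]).1 ≠ s := by
    intro e
    rw [e, Nat.beq_refl] at h7
    exact Bool.noConfusion h7
  have h8' : (tab[s]).1 ≠ D.neg s := by
    intro e
    rw [← e, Nat.beq_refl] at h8
    exact Bool.noConfusion h8
  have h10 := hs.2 _ h6 h7' h8'
  omega

/-- steps down, `G2` -/
def dnG2 : List (ℕ × ℕ × ℕ) :=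
  [(1, 5, 0), (0, 6, 0), (0, 8, 0), (0, 9, 0), (1, 9, 0), (0, 10, 0), (1, 11, 0), (2, 10, 0), (2, 11, 0), (3, 11, 0),
  (5, 11, 0)]

/-- steps up, `G2` -/
def upG2 : List (ℕ × ℕ × ℕ) :=
  [(1, 6, 0), (5, 7, 2), (0, 12, 0), (0, 12, 0), (1, 12, 0), (11, 8, 2), (10, 7, 2), (1, 12, 0), (0, 12, 0), (0, 12,
  0), (11, 6, 0)]

/-- steps down, `B2` -/
def dnB2 : List (ℕ × ℕ × ℕ) :=
  [(1, 4, 1), (0, 5, 0), (0, 6, 0), (1, 7, 1), (2, 7, 1), (1, 7, 0), (2, 7, 0)]

/-- steps up, `B2` -/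
def upB2 : List (ℕ × ℕ × ℕ) :=
  [(3, 5, 1), (0, 8, 0), (0, 8, 0), (7, 6, 1), (7, 5, 1), (0, 8, 0), (0, 8, 0)]

/-- steps down, `D4` -/
def dnD4 : List (ℕ × ℕ × ℕ) :=
  [(1, 9, 0), (0, 14, 0), (0, 15, 0), (0, 16, 0), (0, 17, 0), (1, 17, 0), (0, 19, 0), (0, 20, 0), (0, 21, 0), (0, 22,
  0), (1, 20, 0), (1, 21, 0), (2, 22, 0), (3, 22, 0), (1, 23, 0), (2, 23, 0), (3, 23, 0), (4, 23, 0), (6, 22, 0), (6,
  23, 0), (7, 23, 0), (8, 23, 0), (9, 23, 0)]

/-- steps up, `D4` -/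
def upD4 : List (ℕ × ℕ × ℕ) :=
  [(1, 14, 0), (2, 12, 0), (4, 13, 0), (4, 12, 0), (5, 14, 0), (14, 19, 0), (7, 12, 0), (9, 13, 0), (9, 12, 0), (12,
  15, 0), (14, 16, 0), (14, 15, 0), (15, 14, 0), (16, 14, 0), (15, 12, 0), (17, 13, 0), (17, 12, 0), (22, 18, 0), (19,
  14, 0), (20, 12, 0), (22, 13, 0), (22, 12, 0), (23, 14, 0)]

/-- steps down, `F4` -/
def dnF4 : List (ℕ × ℕ × ℕ) :=
  [(1, 23, 0), (0, 24, 0), (0, 26, 0), (0, 29, 0), (0, 31, 0), (0, 32, 0), (1, 32, 0), (0, 36, 0), (0, 38, 0), (0, 39,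
  0), (1, 39, 0), (0, 40, 0), (1, 40, 0), (2, 40, 0), (3, 40, 0), (0, 42, 0), (0, 43, 0), (1, 43, 0), (0, 44, 0), (1,
  44, 0), (2, 44, 0), (0, 45, 0), (1, 45, 0), (0, 46, 0), (1, 47, 0), (2, 46, 0), (2, 47, 0), (3, 45, 0), (3, 46, 0),
  (3, 47, 0), (4, 46, 0), (4, 47, 0), (5, 47, 0), (7, 44, 0), (7, 45, 0), (7, 46, 0), (7, 47, 0), (8, 46, 0), (8, 47,
  0), (9, 47, 0), (11, 47, 0), (15, 46, 0), (15, 47, 0), (16, 47, 0), (18, 47, 0), (21, 47, 0), (23, 47, 0)]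

/-- steps up, `F4` -/
def upF4 : List (ℕ × ℕ × ℕ) :=
  [(1, 24, 0), (2, 25, 0), (4, 27, 1), (0, 48, 0), (5, 25, 0), (6, 24, 0), (17, 33, 1), (0, 48, 0), (0, 48, 0), (0,
  48, 0), (1, 48, 0), (0, 48, 0), (1, 48, 0), (2, 48, 0), (4, 48, 0), (16, 25, 0), (17, 24, 0), (22, 27, 1), (0, 48,
  0), (1, 48, 0), (2, 48, 0), (22, 24, 0), (24, 26, 0), (25, 26, 0), (26, 25, 0), (26, 24, 0), (31, 27, 1), (2, 48,
  0), (1, 48, 0), (0, 48, 0), (31, 24, 0), (32, 25, 0), (43, 33, 1), (4, 48, 0), (2, 48, 0), (1, 48, 0), (0, 48, 0),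
  (1, 48, 0), (0, 48, 0), (0, 48, 0), (0, 48, 0), (42, 24, 0), (43, 25, 0), (45, 27, 1), (0, 48, 0), (46, 25, 0), (47,
  24, 0)]

/-- steps down, `E6` -/
def dnE6 : List (ℕ × ℕ × ℕ) :=
  [(1, 25, 0), (0, 46, 0), (0, 47, 0), (0, 48, 0), (0, 49, 0), (0, 50, 0), (0, 51, 0), (0, 52, 0), (0, 53, 0), (0, 54,
  0), (0, 55, 0), (1, 53, 0), (1, 54, 0), (1, 55, 0), (2, 55, 0), (5, 55, 0), (0, 61, 0), (0, 62, 0), (0, 63, 0), (0,
  64, 0), (0, 65, 0), (0, 66, 0), (0, 67, 0), (0, 68, 0), (0, 69, 0), (0, 70, 0), (1, 64, 0), (1, 65, 0), (1, 66, 0),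
  (2, 66, 0), (1, 67, 0), (1, 68, 0), (1, 69, 0), (2, 67, 0), (2, 68, 0), (3, 67, 0), (4, 68, 0), (3, 69, 0), (4, 69,
  0), (2, 70, 0), (3, 70, 0), (4, 70, 0), (5, 69, 0), (5, 70, 0), (6, 70, 0), (7, 70, 0), (1, 71, 0), (2, 71, 0), (3,
  71, 0), (4, 71, 0), (5, 71, 0), (6, 71, 0), (7, 71, 0), (8, 71, 0), (9, 71, 0), (10, 71, 0), (16, 66, 0), (16, 69,
  0), (16, 70, 0), (17, 70, 0), (18, 70, 0), (16, 71, 0), (17, 71, 0), (18, 71, 0), (19, 71, 0), (20, 71, 0), (21, 71,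
  0), (22, 71, 0), (23, 71, 0), (24, 71, 0), (25, 71, 0)]

/-- steps up, `E6` -/
def upE6 : List (ℕ × ℕ × ℕ) :=
  [(1, 46, 0), (2, 39, 0), (3, 37, 0), (4, 36, 0), (7, 42, 0), (6, 37, 0), (7, 36, 0), (9, 39, 0), (9, 36, 0), (10,
  37, 0), (13, 46, 0), (12, 36, 0), (13, 37, 0), (14, 39, 0), (15, 42, 0), (42, 57, 0), (17, 37, 0), (18, 36, 0), (20,
  39, 0), (20, 36, 0), (21, 37, 0), (24, 42, 0), (23, 36, 0), (24, 37, 0), (25, 39, 0), (39, 47, 0), (27, 36, 0), (28,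
  37, 0), (29, 39, 0), (39, 43, 0), (31, 36, 0), (32, 37, 0), (37, 40, 0), (34, 36, 0), (36, 38, 0), (37, 38, 0), (38,
  37, 0), (38, 36, 0), (41, 39, 0), (40, 37, 0), (41, 36, 0), (45, 42, 0), (43, 39, 0), (44, 37, 0), (45, 36, 0), (52,
  46, 0), (47, 39, 0), (48, 37, 0), (49, 36, 0), (52, 42, 0), (51, 37, 0), (52, 36, 0), (54, 39, 0), (54, 36, 0), (55,
  37, 0), (66, 56, 0), (57, 42, 0), (58, 39, 0), (59, 37, 0), (60, 36, 0), (63, 46, 0), (62, 37, 0), (63, 36, 0), (65,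
  39, 0), (65, 36, 0), (66, 37, 0), (69, 42, 0), (68, 36, 0), (69, 37, 0), (70, 39, 0), (71, 46, 0)]

/-- steps down, `E7` -/
def dnE7 : List (ℕ × ℕ × ℕ) :=
  [(1, 32, 0), (0, 93, 0), (0, 94, 0), (0, 95, 0), (0, 96, 0), (0, 97, 0), (0, 98, 0), (0, 99, 0), (0, 100, 0), (0,
  101, 0), (0, 102, 0), (0, 103, 0), (0, 104, 0), (0, 105, 0), (0, 106, 0), (0, 107, 0), (0, 108, 0), (0, 109, 0), (0,
  110, 0), (0, 111, 0), (0, 112, 0), (0, 113, 0), (0, 114, 0), (0, 115, 0), (0, 116, 0), (0, 117, 0), (0, 118, 0), (0,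
  119, 0), (0, 120, 0), (0, 121, 0), (0, 122, 0), (0, 123, 0), (0, 124, 0), (1, 109, 0), (1, 110, 0), (1, 111, 0), (1,
  112, 0), (1, 113, 0), (1, 114, 0), (1, 115, 0), (1, 116, 0), (1, 117, 0), (1, 118, 0), (2, 115, 0), (2, 116, 0), (2,
  117, 0), (2, 118, 0), (3, 118, 0), (1, 119, 0), (1, 120, 0), (1, 121, 0), (1, 122, 0), (1, 123, 0), (2, 119, 0), (2,
  120, 0), (2, 121, 0), (2, 122, 0), (3, 119, 0), (3, 120, 0), (3, 121, 0), (4, 119, 0), (4, 120, 0), (5, 119, 0), (6,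
  120, 0), (5, 121, 0), (6, 121, 0), (4, 122, 0), (5, 122, 0), (6, 122, 0), (3, 123, 0), (4, 123, 0), (5, 123, 0), (6,
  123, 0), (2, 124, 0), (3, 124, 0), (4, 124, 0), (5, 124, 0), (6, 124, 0), (7, 122, 0), (7, 123, 0), (8, 123, 0), (9,
  123, 0), (10, 123, 0), (7, 124, 0), (8, 124, 0), (9, 124, 0), (10, 124, 0), (11, 124, 0), (12, 124, 0), (13, 124,
  0), (14, 124, 0), (15, 124, 0), (16, 124, 0), (1, 125, 0), (2, 125, 0), (3, 125, 0), (4, 125, 0), (5, 125, 0), (6,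
  125, 0), (7, 125, 0), (8, 125, 0), (9, 125, 0), (10, 125, 0), (11, 125, 0), (12, 125, 0), (13, 125, 0), (14, 125,
  0), (15, 125, 0), (16, 125, 0), (17, 125, 0), (18, 125, 0), (19, 125, 0), (20, 125, 0), (21, 125, 0), (22, 125, 0),
  (23, 125, 0), (24, 125, 0), (25, 125, 0), (26, 125, 0), (27, 125, 0), (28, 125, 0), (29, 125, 0), (30, 125, 0), (31,
  125, 0), (32, 125, 0)]

/-- steps up, `E7` -/
def upE7 : List (ℕ × ℕ × ℕ) :=
  [(1, 93, 0), (2, 73, 0), (3, 69, 0), (4, 66, 0), (5, 64, 0), (6, 63, 0), (10, 78, 0), (8, 66, 0), (9, 64, 0), (10,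
  63, 0), (13, 69, 0), (12, 64, 0), (13, 63, 0), (15, 66, 0), (15, 63, 0), (16, 64, 0), (22, 73, 0), (18, 64, 0), (19,
  63, 0), (21, 66, 0), (21, 63, 0), (22, 64, 0), (25, 69, 0), (24, 63, 0), (25, 64, 0), (26, 66, 0), (30, 78, 0), (28,
  63, 0), (29, 64, 0), (30, 66, 0), (31, 69, 0), (32, 73, 0), (73, 94, 0), (34, 64, 0), (35, 63, 0), (37, 66, 0), (37,
  63, 0), (38, 64, 0), (41, 69, 0), (40, 63, 0), (41, 64, 0), (42, 66, 0), (46, 73, 0), (44, 63, 0), (45, 64, 0), (46,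
  66, 0), (47, 69, 0), (69, 79, 0), (49, 63, 0), (50, 64, 0), (51, 66, 0), (52, 69, 0), (69, 74, 0), (54, 63, 0), (55,
  64, 0), (56, 66, 0), (66, 70, 0), (58, 63, 0), (59, 64, 0), (64, 67, 0), (61, 63, 0), (63, 65, 0), (64, 65, 0), (65,
  64, 0), (65, 63, 0), (68, 66, 0), (67, 64, 0), (68, 63, 0), (72, 69, 0), (70, 66, 0), (71, 64, 0), (72, 63, 0), (77,
  73, 0), (74, 69, 0), (75, 66, 0), (76, 64, 0), (77, 63, 0), (86, 78, 0), (79, 69, 0), (80, 66, 0), (81, 64, 0), (82,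
  63, 0), (86, 73, 0), (84, 66, 0), (85, 64, 0), (86, 63, 0), (89, 69, 0), (88, 64, 0), (89, 63, 0), (91, 66, 0), (91,
  63, 0), (92, 64, 0), (108, 93, 0), (94, 73, 0), (95, 69, 0), (96, 66, 0), (97, 64, 0), (98, 63, 0), (102, 78, 0),
  (100, 66, 0), (101, 64, 0), (102, 63, 0), (105, 69, 0), (104, 64, 0), (105, 63, 0), (107, 66, 0), (107, 63, 0),
  (108, 64, 0), (114, 73, 0), (110, 64, 0), (111, 63, 0), (113, 66, 0), (113, 63, 0), (114, 64, 0), (117, 69, 0),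
  (116, 63, 0), (117, 64, 0), (118, 66, 0), (122, 78, 0), (120, 63, 0), (121, 64, 0), (122, 66, 0), (123, 69, 0),
  (124, 73, 0), (125, 93, 0)]

/-- steps down, `E8` -/
def dnE8 : List (ℕ × ℕ × ℕ) :=
  [(1, 119, 0), (0, 120, 0), (0, 122, 0), (0, 125, 0), (0, 129, 0), (0, 134, 0), (0, 140, 0), (0, 146, 0), (0, 151,
  0), (0, 155, 0), (0, 158, 0), (0, 160, 0), (0, 161, 0), (1, 161, 0), (0, 168, 0), (0, 173, 0), (0, 177, 0), (0, 180,
  0), (0, 182, 0), (0, 183, 0), (1, 183, 0), (0, 187, 0), (0, 190, 0), (0, 192, 0), (0, 193, 0), (1, 193, 0), (0, 196,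
  0), (0, 198, 0), (0, 199, 0), (1, 199, 0), (0, 201, 0), (0, 202, 0), (1, 202, 0), (0, 203, 0), (1, 203, 0), (2, 203,
  0), (0, 206, 0), (0, 208, 0), (0, 209, 0), (1, 209, 0), (0, 211, 0), (0, 212, 0), (1, 212, 0), (0, 213, 0), (1, 213,
  0), (2, 213, 0), (0, 215, 0), (0, 216, 0), (1, 216, 0), (0, 217, 0), (1, 217, 0), (2, 217, 0), (0, 218, 0), (1, 218,
  0), (2, 218, 0), (3, 218, 0), (0, 220, 0), (0, 221, 0), (1, 221, 0), (0, 222, 0), (1, 222, 0), (2, 222, 0), (0, 223,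
  0), (1, 223, 0), (2, 223, 0), (3, 223, 0), (0, 224, 0), (1, 224, 0), (2, 224, 0), (3, 224, 0), (4, 224, 0), (0, 225,
  0), (1, 225, 0), (2, 225, 0), (3, 225, 0), (4, 225, 0), (5, 225, 0), (6, 225, 0), (0, 227, 0), (0, 228, 0), (1, 228,
  0), (0, 229, 0), (1, 229, 0), (2, 229, 0), (0, 230, 0), (1, 230, 0), (2, 230, 0), (3, 230, 0), (0, 231, 0), (1, 231,
  0), (2, 231, 0), (3, 231, 0), (4, 231, 0), (0, 232, 0), (1, 232, 0), (2, 232, 0), (3, 232, 0), (4, 232, 0), (5, 232,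
  0), (0, 233, 0), (1, 233, 0), (2, 233, 0), (3, 233, 0), (4, 233, 0), (5, 233, 0), (0, 234, 0), (1, 234, 0), (2, 234,
  0), (3, 234, 0), (4, 234, 0), (0, 235, 0), (1, 235, 0), (2, 235, 0), (3, 235, 0), (0, 236, 0), (1, 236, 0), (2, 236,
  0), (0, 237, 0), (1, 237, 0), (0, 238, 0), (1, 239, 0), (2, 238, 0), (2, 239, 0), (3, 237, 0), (3, 238, 0), (3, 239,
  0), (4, 236, 0), (4, 237, 0), (4, 238, 0), (4, 239, 0), (5, 235, 0), (5, 236, 0), (5, 237, 0), (5, 238, 0), (5, 239,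
  0), (6, 234, 0), (6, 235, 0), (6, 236, 0), (6, 237, 0), (6, 238, 0), (6, 239, 0), (7, 234, 0), (7, 235, 0), (7, 236,
  0), (7, 237, 0), (7, 238, 0), (7, 239, 0), (8, 235, 0), (8, 236, 0), (8, 237, 0), (8, 238, 0), (8, 239, 0), (9, 236,
  0), (9, 237, 0), (9, 238, 0), (9, 239, 0), (10, 237, 0), (10, 238, 0), (10, 239, 0), (11, 238, 0), (11, 239, 0),
  (12, 239, 0), (14, 233, 0), (14, 234, 0), (14, 235, 0), (14, 236, 0), (14, 237, 0), (14, 238, 0), (14, 239, 0), (15,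
  235, 0), (15, 236, 0), (15, 237, 0), (15, 238, 0), (15, 239, 0), (16, 236, 0), (16, 237, 0), (16, 238, 0), (16, 239,
  0), (17, 237, 0), (17, 238, 0), (17, 239, 0), (18, 238, 0), (18, 239, 0), (19, 239, 0), (21, 236, 0), (21, 237, 0),
  (21, 238, 0), (21, 239, 0), (22, 237, 0), (22, 238, 0), (22, 239, 0), (23, 238, 0), (23, 239, 0), (24, 239, 0), (26,
  237, 0), (26, 238, 0), (26, 239, 0), (27, 238, 0), (27, 239, 0), (28, 239, 0), (30, 238, 0), (30, 239, 0), (31, 239,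
  0), (33, 239, 0), (36, 237, 0), (36, 238, 0), (36, 239, 0), (37, 238, 0), (37, 239, 0), (38, 239, 0), (40, 238, 0),
  (40, 239, 0), (41, 239, 0), (43, 239, 0), (46, 238, 0), (46, 239, 0), (47, 239, 0), (49, 239, 0), (52, 239, 0), (56,
  238, 0), (56, 239, 0), (57, 239, 0), (59, 239, 0), (62, 239, 0), (66, 239, 0), (71, 239, 0), (78, 238, 0), (78, 239,
  0), (79, 239, 0), (81, 239, 0), (84, 239, 0), (88, 239, 0), (93, 239, 0), (99, 239, 0), (105, 239, 0), (110, 239,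
  0), (114, 239, 0), (117, 239, 0), (119, 239, 0)]

/-- steps up, `E8` -/
def upE8 : List (ℕ × ℕ × ℕ) :=
  [(1, 120, 0), (2, 121, 0), (3, 123, 0), (4, 126, 0), (5, 130, 0), (6, 135, 0), (8, 141, 0), (8, 135, 0), (9, 130,
  0), (10, 126, 0), (11, 123, 0), (12, 121, 0), (13, 120, 0), (20, 162, 0), (15, 141, 0), (16, 130, 0), (17, 126, 0),
  (18, 123, 0), (19, 121, 0), (20, 120, 0), (25, 135, 0), (22, 126, 0), (23, 123, 0), (24, 121, 0), (25, 120, 0), (29,
  130, 0), (27, 123, 0), (28, 121, 0), (29, 120, 0), (32, 126, 0), (31, 121, 0), (32, 120, 0), (34, 123, 0), (34, 120,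
  0), (35, 121, 0), (45, 141, 0), (37, 123, 0), (38, 121, 0), (39, 120, 0), (42, 126, 0), (41, 121, 0), (42, 120, 0),
  (44, 123, 0), (44, 120, 0), (45, 121, 0), (51, 130, 0), (47, 121, 0), (48, 120, 0), (50, 123, 0), (50, 120, 0), (51,
  121, 0), (54, 126, 0), (53, 120, 0), (54, 121, 0), (55, 123, 0), (65, 135, 0), (57, 121, 0), (58, 120, 0), (60, 123,
  0), (60, 120, 0), (61, 121, 0), (64, 126, 0), (63, 120, 0), (64, 121, 0), (65, 123, 0), (69, 130, 0), (67, 120, 0),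
  (68, 121, 0), (69, 123, 0), (70, 126, 0), (75, 141, 0), (72, 120, 0), (73, 121, 0), (74, 123, 0), (75, 126, 0), (76,
  130, 0), (77, 135, 0), (135, 163, 0), (79, 121, 0), (80, 120, 0), (82, 123, 0), (82, 120, 0), (83, 121, 0), (86,
  126, 0), (85, 120, 0), (86, 121, 0), (87, 123, 0), (91, 130, 0), (89, 120, 0), (90, 121, 0), (91, 123, 0), (92, 126,
  0), (97, 135, 0), (94, 120, 0), (95, 121, 0), (96, 123, 0), (97, 126, 0), (98, 130, 0), (130, 142, 0), (100, 120,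
  0), (101, 121, 0), (102, 123, 0), (103, 126, 0), (104, 130, 0), (130, 136, 0), (106, 120, 0), (107, 121, 0), (108,
  123, 0), (109, 126, 0), (126, 131, 0), (111, 120, 0), (112, 121, 0), (113, 123, 0), (123, 127, 0), (115, 120, 0),
  (116, 121, 0), (121, 124, 0), (118, 120, 0), (120, 122, 0), (121, 122, 0), (122, 121, 0), (122, 120, 0), (125, 123,
  0), (124, 121, 0), (125, 120, 0), (129, 126, 0), (127, 123, 0), (128, 121, 0), (129, 120, 0), (134, 130, 0), (131,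
  126, 0), (132, 123, 0), (133, 121, 0), (134, 120, 0), (140, 135, 0), (136, 130, 0), (137, 126, 0), (138, 123, 0),
  (139, 121, 0), (140, 120, 0), (151, 141, 0), (142, 130, 0), (143, 126, 0), (144, 123, 0), (145, 121, 0), (146, 120,
  0), (151, 135, 0), (148, 126, 0), (149, 123, 0), (150, 121, 0), (151, 120, 0), (155, 130, 0), (153, 123, 0), (154,
  121, 0), (155, 120, 0), (158, 126, 0), (157, 121, 0), (158, 120, 0), (160, 123, 0), (160, 120, 0), (161, 121, 0),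
  (183, 162, 0), (163, 135, 0), (164, 130, 0), (165, 126, 0), (166, 123, 0), (167, 121, 0), (168, 120, 0), (173, 141,
  0), (170, 126, 0), (171, 123, 0), (172, 121, 0), (173, 120, 0), (177, 130, 0), (175, 123, 0), (176, 121, 0), (177,
  120, 0), (180, 126, 0), (179, 121, 0), (180, 120, 0), (182, 123, 0), (182, 120, 0), (183, 121, 0), (193, 135, 0),
  (185, 123, 0), (186, 121, 0), (187, 120, 0), (190, 126, 0), (189, 121, 0), (190, 120, 0), (192, 123, 0), (192, 120,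
  0), (193, 121, 0), (199, 130, 0), (195, 121, 0), (196, 120, 0), (198, 123, 0), (198, 120, 0), (199, 121, 0), (202,
  126, 0), (201, 120, 0), (202, 121, 0), (203, 123, 0), (213, 141, 0), (205, 121, 0), (206, 120, 0), (208, 123, 0),
  (208, 120, 0), (209, 121, 0), (212, 126, 0), (211, 120, 0), (212, 121, 0), (213, 123, 0), (217, 130, 0), (215, 120,
  0), (216, 121, 0), (217, 123, 0), (218, 126, 0), (223, 135, 0), (220, 120, 0), (221, 121, 0), (222, 123, 0), (223,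
  126, 0), (224, 130, 0), (225, 141, 0), (233, 162, 0), (227, 120, 0), (228, 121, 0), (229, 123, 0), (230, 126, 0),
  (231, 130, 0), (232, 135, 0), (234, 141, 0), (234, 135, 0), (235, 130, 0), (236, 126, 0), (237, 123, 0), (238, 121,
  0), (239, 120, 0)]


theorem chk_G2 : chkDn chevG2 dnG2 = true ∧ chkUp chevG2 upG2 = true := by decide +kernel
theorem chk_B2 : chkDn chevB2 dnB2 = true ∧ chkUp chevB2 upB2 = true := by decide +kernel
theorem chk_D4 : chkDn chevD4 dnD4 = true ∧ chkUp chevD4 upD4 = true := by decide +kernel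
theorem chk_F4 : chkDn chevF4 dnF4 = true ∧ chkUp chevF4 upF4 = true := by decide +kernel
theorem chk_E6 : chkDn chevE6 dnE6 = true ∧ chkUp chevE6 upE6 = true := by decide +kernel
theorem chk_E7 : chkDn chevE7 dnE7 = true ∧ chkUp chevE7 upE7 = true := by decide +kernel
theorem chk_E8 : chkDn chevE8 dnE8 = true ∧ chkUp chevE8 upE8 = true := by decide +kernel

theorem exists_tabs (hD : InList D) : (∃ tab, chkDn D tab = true) ∧ ∃ tab, chkUp D tab = true := by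
  simp only [InList, List.mem_cons, List.not_mem_nil, or_false] at hD
  rcases hD with rfl | rfl | rfl | rfl | rfl | rfl | rfl
  · exact ⟨⟨_, chk_G2.1⟩, ⟨_, chk_G2.2⟩⟩
  · exact ⟨⟨_, chk_B2.1⟩, ⟨_, chk_B2.2⟩⟩
  · exact ⟨⟨_, chk_D4.1⟩, ⟨_, chk_D4.2⟩⟩
  · exact ⟨⟨_, chk_F4.1⟩, ⟨_, chk_F4.2⟩⟩
  · exact ⟨⟨_, chk_E6.1⟩, ⟨_, chk_E6.2⟩⟩
  · exact ⟨⟨_, chk_E7.1⟩, ⟨_, chk_E7.2⟩⟩
  · exact ⟨⟨_, chk_E8.1⟩, ⟨_, chk_E8.2⟩⟩

/-- **The highest root vector generates all root vectors.** -/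
theorem all_of_top (hD : InList D) (hL : ∀ g : ↥(D.group k), StabU L ((g : GL D.Idx k) : Matrix D.Idx D.Idx k))
    (htop : ev D k (D.nroots - 1) ∈ L) (i : Fin D.nroots) : (Pi.single (Sum.inr i) 1 : D.Idx → k) ∈ L := by
  obtain ⟨⟨tab, h1⟩, -⟩ := exists_tabs hD
  rw [← ev_eq_single i.2]
  exact all_of_dn hD (fun r t => hL ⟨xG hD r t, xG_mem_group hD r t⟩) h1 htop i.2

/-- **A long root vector generates all root vectors.** -/
theorem all_of_long (hD : InList D) (hL : ∀ g : ↥(D.group k), StabU L ((g : GL D.Idx k) : Matrix D.Idx D.Idx k))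
    {s : Fin D.nroots} (hs : Long D s) (hsL : (Pi.single (Sum.inr s) 1 : D.Idx → k) ∈ L) (i : Fin D.nroots) :
    (Pi.single (Sum.inr i) 1 : D.Idx → k) ∈ L := by
  obtain ⟨-, ⟨tab, h1⟩⟩ := exists_tabs hD
  rw [← ev_eq_single s.2] at hsL
  exact all_of_top hD hL (top_of_long hD (fun r t => hL ⟨xG hD r t, xG_mem_group hD r t⟩) h1 hs hsL) i

/-- **Corollary** : a submodule `L` stable under the `σ`-fixed `r`-elements of the centralisers of the elements
`1 ≠ x ∈ E`, `E` toral of order `p ^ 2` and exponent `p`, containing the vector of the highest root (index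
`D.nroots - 1`), contains all the root vectors. -/
theorem rootVec_mem {l : ℕ} {M : CoxeterMatrix (Fin l)} (hp : Nodes.RGDChev.IsType D l M) {W : Type v} [Group W]
    {cs : CoxeterSystem M W} [IsAlgClosed k] (hk : BpExc.TowChev.LocFin k) {r e : ℕ} [Fact r.Prime] [CharP k r]
    (hd : Dens hp cs k r e) (he : 0 < e) {σ : MulAut ↥(D.group k)} {g : (Fin l → ℤ) ≃+ (Fin l → ℤ)}
    (hσ : BpExc.LangFr.IsFrob r e σ)
    (Fσ : BpExc.Fr.Fr cs hp.isCartan (KFacts.RgdChevCoord.TT D k) (KFacts.RgdChevCoord.XX D l k) σ g)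
    {E : Subgroup ↥(D.group k)} {p : ℕ} (hpp : p.Prime)
    (hcard : Nat.card ↥E = p ^ 2) (hexp : ∀ x ∈ E, x ^ p = 1) (hσE : ∀ x ∈ E, σ x = x)
    {z : ↥(D.group k)} (hz : ∀ x ∈ E, z * x * z⁻¹ ∈ KFacts.RgdChevCoord.TT D k)
    (hL : ∀ x ∈ E, x ≠ 1 → ∀ u : ↥(D.group k), σ u = u → u * x = x * u → (∃ j, u ^ r ^ j = 1) →
      StabU L ((u : GL D.Idx k) : Matrix D.Idx D.Idx k)) (htop : ev D k (D.nroots - 1) ∈ L) (i : Fin D.nroots) :
    (Pi.single (Sum.inr i) 1 : D.Idx → k) ∈ L :=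
  all_of_top hp.inList (stab_all hp hk hd he hσ Fσ hpp hcard hexp hσE hz hL) htop i

end Cfsg.Agent.H549.Exc
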